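import Groth.Agent.Ega4fib.H171.SrcConstr
import Groth.Agent.Ega4fib.H171.CodField
import Groth.Agent.Ega4fib.H171.FibCodepth
import Groth.Agent.Ega43.FibSch1

/-!
# Local constructibility of the loci `codepth = n` of the fibres
-/

set_option autoImplicit false

universe u

open CategoryTheory Limits AlgebraicGeometry TensorProduct Topology Set.Notation

namespace Groth.Agent.Ega4fib.H171.CodConstr

open Groth.Agent Groth.Agent.Flat2D.PbStalk CodField

theorem codFib_openSrc (n : ℕ) {U X Y : Scheme.{u}} (j : U ⟶ X) [IsOpenImmersion j] (f : X ⟶ Y)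
    (x : U) : CodFib n (j ≫ f) x ↔ CodFib n f (j x) := by
  let e : X.presheaf.stalk (j x) ≃+* U.presheaf.stalk x :=
    (asIso (j.stalkMap x)).commRingCatIsoToRingEquiv
  have h : fiberIdeal (j ≫ f) x = (fiberIdeal f (j x)).map (e : X.presheaf.stalk (j x) →+* _) := by
    have h1 : (j ≫ f).stalkMap x = f.stalkMap (j x) ≫ j.stalkMap x := Scheme.Hom.stalkMap_comp _ _ _
    have h2 : (IsLocalRing.maximalIdeal (Y.presheaf.stalk (f (j x)))).map ((j ≫ f).stalkMap x).hom =
      (IsLocalRing.maximalIdeal (Y.presheaf.stalk (f (j x)))).map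
        (f.stalkMap (j x) ≫ j.stalkMap x).hom :=
      congrArg (fun ψ : Y.presheaf.stalk (f (j x)) ⟶ U.presheaf.stalk x =>
        (IsLocalRing.maximalIdeal (Y.presheaf.stalk (f (j x)))).map ψ.hom) h1
    refine h2.trans ?_
    rw [CommRingCat.hom_comp, ← Ideal.map_map]
    rfl
  exact (cod_congr (Ideal.quotientEquiv _ _ e h)).symm

/-- `R` is local with codepth at most `c`. -/
def CodLE (c : ℕ) (R : Type u) [CommRing R] : Prop :=
  ∃ _ : IsLocalRing R, ringKrullDim R ≤ ((LocCoh.depth R R : ℕ∞) : WithBot ℕ∞) + c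

theorem codLE_of_ringEquiv {c : ℕ} {R S : Type u} [CommRing R] [CommRing S]
    (e : R ≃+* S) (h : CodLE c R) : CodLE c S := by
  obtain ⟨h1, h2⟩ := h
  have h3 : IsLocalRing S := e.isLocalRing
  refine ⟨h3, ?_⟩
  rw [← ringKrullDim_eq_of_ringEquiv e, ← Ega4C.FlatLocal.depth_self_congr e]
  exact h2

theorem isOpen_codLE (c : ℕ) {X Y : Scheme.{u}} (f : X ⟶ Y) [Flat f] [LocallyOfFinitePresentation f] :
    IsOpen {x : X | CodLE c ((f.fiber (f.base x)).presheaf.stalk (f.asFiber x))} := by
  refine Ega43.FibSch1.isOpen_of_affine f (fun R _ => CodLE c R)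
    (fun R S _ _ e h => codLE_of_ringEquiv e h) ?_
  intro A B _ _ _ _ _
  have h := FibCodepth.isOpen_codepth_le (A := A) (B := B) c
  convert h using 1
  ext q
  constructor
  · rintro ⟨_, h'⟩
    exact h'
  · intro h'
    exact ⟨_, h'⟩

theorem cod_iff_codLE (n : ℕ) (R : Type u) [CommRing R] [IsNoetherianRing R] :
    Cod n R ↔ CodLE n R ∧ ∀ m < n, ¬ CodLE m R := by
  constructor
  · rintro ⟨h, h1⟩
    obtain ⟨a, ha⟩ := Ega4C.FlatLocal.exists_depth_eq R
    obtain ⟨b, hb⟩ := Ega4C.FlatLocal.exists_ringKrullDim_eq R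
    refine ⟨⟨h, h1.le⟩, ?_⟩
    rintro m hm ⟨_, h2⟩
    rw [ha, hb] at h1 h2
    norm_cast at h1 h2
    omega
  · rintro ⟨⟨h, h1⟩, h2⟩
    refine ⟨h, ?_⟩
    obtain ⟨a, ha⟩ := Ega4C.FlatLocal.exists_depth_eq R
    obtain ⟨b, hb⟩ := Ega4C.FlatLocal.exists_ringKrullDim_eq R
    have h3 := Ega4C.FlatLocal.depth_le_ringKrullDim R
    rw [ha, hb] at h1 h3
    norm_cast at h1 h3
    obtain ⟨k, hk⟩ : ∃ k, b = a + k := ⟨b - a, by omega⟩
    have h5 : b = a + n := by
      by_contra hne
      refine h2 k (by omega) ⟨h, ?_⟩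
      rw [ha, hb, hk]
      push_cast
      exact le_rfl
    rw [ha, hb, h5]
    push_cast
    rfl

theorem hyp (n : ℕ) : SrcConstr.Hyp (fun {_ _} f x => CodFib n f x) where
  bc := fun {X Y X' Y' f f' g' g} hc hf x' => by
    have : LocallyOfFiniteType f := inferInstance
    exact codFib_baseChange n hc x'
  openSrc := fun j _ f _ x => codFib_openSrc n j f x
  flat := by
    intro A B _ _ _ _ _ _
    have hB : IsNoetherianRing B := Algebra.FiniteType.isNoetherianRing A B
    have hfp : Algebra.FinitePresentation A B := Algebra.FinitePresentation.of_finiteType.mp ‹_›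
    let f := Spec.map (CommRingCat.ofHom (algebraMap A B))
    have hlf : LocallyOfFinitePresentation f := SrcConstr.lfp_Spec
    have hfl : Flat f := by
      rw [Flat.SpecMap_iff]
      exact RingHom.flat_algebraMap_iff.mpr ‹_›
    have hcons : ∀ c, IsConstructible {x : Spec (CommRingCat.of B) |
        CodLE c ((f.fiber (f.base x)).presheaf.stalk (f.asFiber x))} := by
      intro c
      have := isOpen_codLE c f
      exact IsCompact.isConstructible (TopologicalSpace.NoetherianSpace.isCompact _) this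
    have h : {x : Spec (CommRingCat.of B) | CodFib n f x} =
        {x | CodLE n ((f.fiber (f.base x)).presheaf.stalk (f.asFiber x))} ∩
        ⋂ m : Fin n, {x | CodLE m.1 ((f.fiber (f.base x)).presheaf.stalk (f.asFiber x))}ᶜ := by
      ext x
      simp only [Set.mem_ofPred_eq, Set.mem_inter_iff, Set.mem_iInter, Set.mem_compl_iff]
      have h1 : CodFib n f x ↔ Cod n ((f.fiber (f.base x)).presheaf.stalk (f.asFiber x)) :=
        cod_congr (fiberStalkEquiv f x)
      have h2 : LocallyOfFiniteType (f.fiberToSpecResidueField (f.base x)) :=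
        MorphismProperty.pullback_snd _ _ inferInstance
      have h3 : IsLocallyNoetherian (f.fiber (f.base x)) :=
        LocallyOfFiniteType.isLocallyNoetherian (f.fiberToSpecResidueField (f.base x))
      rw [h1, cod_iff_codLE]
      refine and_congr Iff.rfl ⟨fun h m => h m.1 m.2, fun h m hm => h ⟨m, hm⟩⟩
    rw [h]
    exact (hcons n).inter (IsConstructible.iInter fun m => (hcons m.1).compl)

theorem main {X S : Scheme.{u}} (f : X ⟶ S) [LocallyOfFinitePresentation f] (n : ℕ) :
    IsLocallyConstructible {x : X |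
      ringKrullDim ((f.fiber (f.base x)).presheaf.stalk (f.asFiber x)) =
        ((LocCoh.depth ((f.fiber (f.base x)).presheaf.stalk (f.asFiber x))
          ((f.fiber (f.base x)).presheaf.stalk (f.asFiber x)) : ℕ∞) : WithBot ℕ∞) + n} := by
  have h := SrcConstr.isLocallyConstructible (hyp.{u} n) f
  convert h using 1
  ext x
  exact (codFib_iff n f x).symm

end Groth.Agent.Ega4fib.H171.CodConstr
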