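import Groth.Agent.S0389
import Groth.Agent.Ega43.ConsCrit
import Groth.Agent.Ega43.NoethRed
import Mathlib.AlgebraicGeometry.Morphisms.Flat
import Mathlib.AlgebraicGeometry.Morphisms.FinitePresentation
import Mathlib.AlgebraicGeometry.Noetherian

/-!
# Local constructibility, in the source, of loci of fibrewise properties

Let `E f x` be a property of the points `x` of the source of a morphism `f`, compatible with base change and
with open immersions into the source, and such that for `f : Spec B ⟶ Spec A` flat of finite type with `A`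
Noetherian the locus of `E f` is constructible.  Then the locus of `E f` is locally constructible for every
`f` locally of finite presentation.
-/

set_option autoImplicit false

universe u

open CategoryTheory Limits AlgebraicGeometry TensorProduct Topology Set.Notation

namespace Groth.Agent.Ega4fib.H171.SrcConstr

open Groth.Agent Groth.Agent.Ega43

variable (E : ∀ {X Y : Scheme.{u}} (_ : X ⟶ Y), X → Prop)

/-- The hypotheses on a fibrewise property. -/
structure Hyp : Prop where
  bc : ∀ {X Y X' Y' : Scheme.{u}} {f : X ⟶ Y} {f' : X' ⟶ Y'} {g' : X' ⟶ X} {g : Y' ⟶ Y},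
    IsPullback g' f' f g → LocallyOfFinitePresentation f → ∀ x' : X', E f' x' ↔ E f (g' x')
  openSrc : ∀ {U X Y : Scheme.{u}} (j : U ⟶ X) [IsOpenImmersion j] (f : X ⟶ Y)
    [LocallyOfFinitePresentation f] (x : U), E (j ≫ f) x ↔ E f (j x)
  flat : ∀ (A B : Type u) [CommRing A] [CommRing B] [Algebra A B] [IsNoetherianRing A]
    [Algebra.FiniteType A B] [Module.Flat A B],
    IsConstructible {x : Spec (CommRingCat.of B) | E (Spec.map (CommRingCat.ofHom (algebraMap A B))) x}

variable {E}

theorem lfp_Spec {A B : Type u} [CommRing A] [CommRing B] [Algebra A B]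
    [Algebra.FinitePresentation A B] :
    LocallyOfFinitePresentation (Spec.map (CommRingCat.ofHom (algebraMap A B))) := by
  rw [HasRingHomProperty.Spec_iff (P := @LocallyOfFinitePresentation)]
  exact RingHom.finitePresentation_algebraMap.mpr ‹_›

theorem isConstructible_of_noetherian (hE : Hyp E) {A B : Type u} [CommRing A] [CommRing B]
    [Algebra A B] [IsNoetherianRing A] [Algebra.FiniteType A B] :
    IsConstructible {x : Spec (CommRingCat.of B) |
      E (Spec.map (CommRingCat.ofHom (algebraMap A B))) x} := by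
  have hB : IsNoetherianRing B := Algebra.FiniteType.isNoetherianRing A B
  have hfpAB : Algebra.FinitePresentation A B := Algebra.FinitePresentation.of_finiteType.mp ‹_›
  refine ConsCrit.isConstructible_of_forall_exists _ fun q => ?_
  let p : Ideal A := q.asIdeal.comap (algebraMap A B)
  have hp : p.IsPrime := inferInstance
  have hft : Algebra.FiniteType (A ⧸ p) ((A ⧸ p) ⊗[A] B) := inferInstance
  obtain ⟨a, ha, hfree, -⟩ := S0389.result (R := A ⧸ p) (S := (A ⧸ p) ⊗[A] B)
    (M := (A ⧸ p) ⊗[A] B)
  let A₂ := Localization.Away a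
  let B₂ := A₂ ⊗[A] B
  have hflat : Module.Flat A₂ B₂ := by
    have h1 : Module.Flat A₂ (A₂ ⊗[A ⧸ p] ((A ⧸ p) ⊗[A] B)) := inferInstance
    exact Module.Flat.of_linearEquiv
      (TensorProduct.AlgebraTensorModule.cancelBaseChange A (A ⧸ p) A₂ A₂ B).symm
  have hN2 : IsNoetherianRing A₂ := IsLocalization.isNoetherianRing (Submonoid.powers a) A₂ inferInstance
  have hft2 : Algebra.FiniteType A₂ B₂ := inferInstance
  have hE2 := hE.flat A₂ B₂
  let g : Spec (CommRingCat.of A₂) ⟶ Spec (CommRingCat.of A) :=
    Spec.map (CommRingCat.ofHom (algebraMap A A₂))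
  let f : Spec (CommRingCat.of B) ⟶ Spec (CommRingCat.of A) :=
    Spec.map (CommRingCat.ofHom (algebraMap A B))
  let f' : Spec (CommRingCat.of B₂) ⟶ Spec (CommRingCat.of A₂) :=
    Spec.map (CommRingCat.ofHom (algebraMap A₂ B₂))
  let g' : Spec (CommRingCat.of B₂) ⟶ Spec (CommRingCat.of B) :=
    Spec.map (CommRingCat.ofHom (Algebra.TensorProduct.includeRight (R := A) (A := A₂)
      (B := B)).toRingHom)
  have hpb : IsPullback g' f' f g :=
    (isPullback_SpecMap_of_isPushout _ _ _ _ (CommRingCat.isPushout_tensorProduct A A₂ B)).flip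
  have hlf : LocallyOfFinitePresentation f := lfp_Spec
  have hlg : LocallyOfFinitePresentation g := by
    have h1 : Algebra.FiniteType A (A ⧸ p) := inferInstance
    have h2 : Algebra.FiniteType (A ⧸ p) A₂ := inferInstance
    have h3 : Algebra.FiniteType A A₂ := Algebra.FiniteType.trans h1 h2
    have h4 : Algebra.FinitePresentation A A₂ := Algebra.FinitePresentation.of_finiteType.mp h3
    exact lfp_Spec
  have hlg' : LocallyOfFinitePresentation g' := MorphismProperty.of_isPullback hpb.flip hlg
  refine ⟨Set.range g', ?_, ?_, ?_⟩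
  · rw [← Set.image_univ]
    exact g'.isConstructible_image IsConstructible.univ
  · have hinj : Function.Injective (algebraMap (A ⧸ p) A₂) :=
      IsLocalization.injective A₂ (powers_le_nonZeroDivisors_of_noZeroDivisors ha)
    have hdom : IsDomain A₂ := IsLocalization.isDomain_localization
      (powers_le_nonZeroDivisors_of_noZeroDivisors ha)
    let z : Spec (CommRingCat.of A₂) := (⟨⊥, Ideal.isPrime_bot⟩ : PrimeSpectrum A₂)
    have hz : f q = g z := by
      apply PrimeSpectrum.ext
      change q.asIdeal.comap (algebraMap A B) = (⊥ : Ideal A₂).comap (algebraMap A A₂)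
      rw [IsScalarTower.algebraMap_eq A (A ⧸ p) A₂, ← Ideal.comap_comap,
        Ideal.comap_bot_of_injective _ hinj, ← RingHom.ker_eq_comap_bot,
        Ideal.Quotient.algebraMap_eq, Ideal.mk_ker]
    obtain ⟨w, hw, -⟩ := Scheme.exists_preimage_of_isPullback hpb q z hz
    exact ⟨w, hw⟩
  · have h : Set.range g' ∩ {x : Spec (CommRingCat.of B) | E f x} =
        g' '' {x : Spec (CommRingCat.of B₂) | E f' x} := by
      ext x
      constructor
      · rintro ⟨⟨y, rfl⟩, hy⟩
        exact ⟨y, (hE.bc hpb hlf y).mpr hy, rfl⟩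
      · rintro ⟨y, hy, rfl⟩
        exact ⟨⟨y, rfl⟩, (hE.bc hpb hlf y).mp hy⟩
    change IsConstructible (Set.range g' ∩ {x : Spec (CommRingCat.of B) | E f x})
    rw [h]
    exact g'.isConstructible_image hE2

theorem isConstructible_of_affine (hE : Hyp E) {A B : Type u} [CommRing A] [CommRing B]
    [Algebra A B] [Algebra.FinitePresentation A B] :
    IsConstructible {x : Spec (CommRingCat.of B) |
      E (Spec.map (CommRingCat.ofHom (algebraMap A B))) x} := by
  obtain ⟨t, ht, Ht⟩ := NoethRed.exists_model (A := A) (D := B) Set.finite_empty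
  obtain ⟨A₀, _, _, h1, h2⟩ := NoethRed.exists_noetherian ht
  obtain ⟨B₀, _, _, _, h3, -, h5⟩ := Ht A₀ h2
  have hpb := (isPullback_SpecMap_of_isPushout _ _ _ _ h5)
  have h0 := isConstructible_of_noetherian hE (A := A₀) (B := B₀)
  have hlf : LocallyOfFinitePresentation (Spec.map (CommRingCat.ofHom (algebraMap A₀ B₀))) :=
    lfp_Spec
  have h : {x : Spec (CommRingCat.of B) |
      E (Spec.map (CommRingCat.ofHom (algebraMap A B))) x} =
      (Spec.map (CommRingCat.ofHom (algebraMap B₀ B))) ⁻¹'
        {x | E (Spec.map (CommRingCat.ofHom (algebraMap A₀ B₀))) x} := by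
    ext x
    exact hE.bc hpb hlf x
  rw [h]
  exact Scheme.Hom.isConstructible_preimage _ h0

theorem isLocallyConstructible (hE : Hyp E) {X Y : Scheme.{u}} (f : X ⟶ Y)
    [LocallyOfFinitePresentation f] : IsLocallyConstructible {x : X | E f x} := by
  have key : ∀ x : X, ∃ W : X.Opens, x ∈ W ∧ IsConstructible ((W : Set X) ↓∩ {x : X | E f x}) := by
    intro x
    obtain ⟨V, hV, hxV, -⟩ := exists_isAffineOpen_mem_and_subset (U := (⊤ : Y.Opens))
      (x := f x) (by trivial)
    obtain ⟨W, hW, hxW, e⟩ := exists_isAffineOpen_mem_and_subset (U := f ⁻¹ᵁ V) (x := x) hxV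
    refine ⟨W, hxW, ?_⟩
    let φ : Γ(Y, V) ⟶ Γ(X, W) := f.appLE V W e
    let _ : Algebra Γ(Y, V) Γ(X, W) := φ.hom.toAlgebra
    have hfp : Algebra.FinitePresentation Γ(Y, V) Γ(X, W) := f.finitePresentation_appLE hV hW e
    have h0 := isConstructible_of_affine hE (A := Γ(Y, V)) (B := Γ(X, W))
    have hcomm : hW.fromSpec ≫ f = Spec.map φ ≫ hV.fromSpec :=
      (IsAffineOpen.SpecMap_appLE_fromSpec f hV hW e).symm
    have hlf : LocallyOfFinitePresentation (Spec.map φ) := lfp_Spec (A := Γ(Y, V)) (B := Γ(X, W))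
    have hpb : IsPullback (𝟙 _) (Spec.map φ) (hW.fromSpec ≫ f) hV.fromSpec := by
      rw [hcomm]
      refine IsPullback.of_isLimit' ⟨by simp⟩ ?_
      refine PullbackCone.IsLimit.mk _ (fun s => s.fst) (fun s => by simp) (fun s => ?_)
        (fun s m h1 h2 => by simpa using h1)
      rw [← cancel_mono hV.fromSpec, Category.assoc]
      exact s.condition
    have hlf2 : LocallyOfFinitePresentation (hW.fromSpec ≫ f) := inferInstance
    have h : ((W : Set X) ↓∩ {x : X | E f x}) = (hW.isoSpec.hom) ⁻¹'
        {x | E (Spec.map φ) x} := by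
      ext w
      change E f w.1 ↔ E (Spec.map φ) (hW.isoSpec.hom w)
      refine Iff.trans ?_ (hE.bc hpb hlf2 (hW.isoSpec.hom w)).symm
      change E f w.1 ↔ E (hW.fromSpec ≫ f) (hW.isoSpec.hom w)
      rw [hE.openSrc]
      have : hW.fromSpec (hW.isoSpec.hom w) = w.1 := by
        rw [← Scheme.Hom.comp_apply, IsAffineOpen.isoSpec_hom_fromSpec]
        rfl
      rw [this]
    rw [h]
    exact Scheme.Hom.isConstructible_preimage _ h0
  choose W hW hcW using key
  refine IsLocallyConstructible.of_isOpenCover (U := W) ?_ (fun i => (hcW i).isLocallyConstructible)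
  rw [TopologicalSpace.IsOpenCover]
  exact top_le_iff.mp fun x _ => TopologicalSpace.Opens.mem_iSup.mpr ⟨x, hW x⟩

end Groth.Agent.Ega4fib.H171.SrcConstr
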